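import Groth.Agent.WeakAssEtLib.Basic
import Groth.Agent.AlgSpPts.Univ
import Mathlib.RingTheory.Ideal.MinimalPrime.Basic

/-!
# Weakly associated points of a direct image along an affine morphism
-/

set_option autoImplicit false
set_option backward.isDefEq.respectTransparency false
set_option backward.isDefEq.respectTransparency.types false

universe u

open CategoryTheory CategoryTheory.Limits AlgebraicGeometry Opposite AlgSp

namespace Groth.Agent.WeakAssEtLib

open Groth.Agent.AlgSpLib.Cartier

theorem mem_primeAtPt_iff {U : Scheme.{u}} (w : U) (a : Γ(U, ⊤)) : a ∈ primeAtPt U w ↔ w ∉ U.basicOpen a := by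
  rw [primeAtPt, Ideal.mem_comap, IsLocalRing.mem_maximalIdeal, mem_nonunits_iff]
  exact (U.mem_basicOpen_top a w).not.symm

theorem primeAtPt_apply {U V : Scheme.{u}} (h : U ⟶ V) (w : U) :
    primeAtPt V (h w) = (primeAtPt U w).comap h.appTop.hom := by
  ext a
  rw [Ideal.mem_comap, mem_primeAtPt_iff, mem_primeAtPt_iff, ← Scheme.preimage_basicOpen_top]
  rfl

theorem primeAtPt_injective {U : Scheme.{u}} [IsAffine U] : Function.Injective (primeAtPt U) := fun x y h => by
  rw [primeAtPt_eq, primeAtPt_eq] at h
  have h' := congrArg (isAffineOpen_top U).fromSpec (PrimeSpectrum.ext h)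
  rwa [IsAffineOpen.fromSpec_primeIdealOf, IsAffineOpen.fromSpec_primeIdealOf] at h'

variable {S : Scheme.{u}} {X Y : Sp S} {f : X ⟶ Y}

/-- The chosen base change of an affine scheme along an affine morphism is affine. -/
theorem isAffine_bcObj (hf : Representable f) (haff : IsAffineMor f) (E : EtOver Y)
    (hE : IsAffine E.obj.left.left) : IsAffine (EtOver.bcObj hf E).obj.left.left := by
  obtain ⟨W, i, fst, sq, hW⟩ := haff hE E.obj.hom
  let e : hf.pullback E.obj.hom ≅ W := (yon S).preimageIso ((hf.isPullback E.obj.hom).isoIsPullback _ _ sq)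
  haveI : IsAffine ((Over.forget S).obj W) := hW
  exact IsAffine.of_isIso ((Over.forget S).mapIso e).hom

theorem pushModEt_subset (hf : Representable f) (haff : IsAffineMor f) (M : ModEt X) :
    WeakAssEt ((pushModEt hf).obj M) ⊆ Points.map f '' WeakAssEt M := by
  rintro y ⟨E, hE, u, rfl, s, hs⟩
  haveI := isAffine_bcObj hf haff E hE
  let E' := EtOver.bcObj hf E
  let t : sectModEt M E' := s
  let φ := (EtOver.bcπ hf E).left.appTop.hom
  have hann : annSect (M := (pushModEt hf).obj M) s = (annSect t).comap φ := by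
    ext a
    rw [mem_annSect_iff, Ideal.mem_comap, mem_annSect_iff]
    exact Iff.rfl
  rw [hann] at hs
  obtain ⟨q, hq, hqp⟩ := Ideal.exists_minimalPrimes_comap_eq φ _ hs
  have : q.IsPrime := hq.1.1
  obtain ⟨w, rfl⟩ := exists_primeAtPt_eq (U := E'.obj.left.left) q
  refine ⟨Points.ofPt E'.obj.hom w, ⟨E', inferInstance, w, rfl, t, hq⟩, ?_⟩
  refine (AlgSpPts.map_ofPt_fst (EtOver.isPullback_bcObj hf E) w).trans ?_
  congr 1
  exact primeAtPt_injective ((primeAtPt_apply _ w).trans hqp)

end Groth.Agent.WeakAssEtLib
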