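import Groth.Prelude.Def_AlgSpModX
import Groth.Agent.AlgSpLib.CartierAvoid

/-!
# Weakly associated points of modules on the small etale site: formal properties
-/

set_option autoImplicit false
set_option backward.isDefEq.respectTransparency false
set_option backward.isDefEq.respectTransparency.types false

universe u

open CategoryTheory CategoryTheory.Limits AlgebraicGeometry Opposite AlgSp

namespace Groth.Agent.WeakAssEtLib

variable {S : Scheme.{u}} {X : Sp S}

open Groth.Agent.AlgSpLib.Cartier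

/-- A nonzero section has a weakly associated point. -/
theorem exists_isWeakAssOn {M : ModEt X} (E : EtOver X) [IsAffine E.obj.left.left] (s : sectModEt M E)
    (hs : s ≠ 0) : ∃ w, IsWeakAssOn M E w := by
  have h : annSect s ≠ ⊤ := fun ht => hs (by
    have h1 := (mem_annSect_iff s 1).1 (ht ▸ trivial)
    rwa [map_one, one_smul] at h1)
  obtain ⟨P, hP⟩ := Ideal.nonempty_minimalPrimes h
  have : P.IsPrime := hP.1.1
  obtain ⟨w, hw⟩ := exists_primeAtPt_eq P
  exact ⟨w, s, hw.symm ▸ hP⟩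

/-- A section vanishing on all affine objects over its object vanishes. -/
theorem eq_zero_of_affine {M : ModEt X} (E : EtOver X) (s : sectModEt M E)
    (h : ∀ (E' : EtOver X) (g : E' ⟶ E), IsAffine E'.obj.left.left → M.val.map g.op s = 0) : s = 0 := by
  choose W hW hxW hle using fun x : E.obj.left.left =>
    exists_isAffineOpen_mem_and_subset (x := x) (U := ⊤) trivial
  let Yc : ↥E.obj.left.left → EtOver X := fun x => AlgSpDec.openObj E.obj.hom E.property (W x)
  let g : ∀ x, Yc x ⟶ E := fun x => EtOver.homMk (Over.homMk (W x).ι rfl) rfl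
  have hcov : Sieve.ofArrows Yc g ∈ etTop X E :=
    ofArrows_mem_etTop Yc g fun x => ⟨x, ⟨x, hxW x⟩, rfl⟩
  have hsh := (isSheaf_iff_isSheaf_of_type _ _).1
    ((Presheaf.isSheaf_iff_isSheaf_forget (etTop X) M.val.presheaf (forget AddCommGrpCat.{u + 1})).1 M.isSheaf)
  refine (hsh.isSeparated _ hcov).ext ?_
  rintro V _ ⟨_, k, _, ⟨x⟩, rfl⟩
  show M.val.map (k ≫ g x).op s = M.val.map (k ≫ g x).op 0
  rw [map_zero]
  have h1 := congrArg (M.val.map k.op) (h (Yc x) (g x) (hW x))
  rw [map_zero] at h1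
  exact (PresheafOfModules.map_comp_apply M.val (g x).op k.op s).trans h1

theorem isZero_iff (M : ModEt X) : IsZero M ↔ WeakAssEt M = ∅ := by
  refine ⟨fun h => ?_, fun h => ?_⟩
  · rw [Set.eq_empty_iff_forall_notMem]
    rintro x ⟨E, hE, u, -, s, hs⟩
    have h0 : s = 0 := by
      have h1 := congrArg (fun φ : M ⟶ M => φ.val.app (op E) s) ((IsZero.iff_id_eq_zero M).1 h)
      exact h1
    subst h0
    refine hs.1.1.ne_top (top_le_iff.1 fun a _ => hs.1.2 ?_)
    rw [mem_annSect_iff, smul_zero]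
  · rw [IsZero.iff_id_eq_zero]
    ext E s
    change s = 0
    refine eq_zero_of_affine E.unop s fun E' g hE' => by_contra fun hne => ?_
    obtain ⟨w, hw⟩ := exists_isWeakAssOn E' _ hne
    exact Set.eq_empty_iff_forall_notMem.1 h _ ⟨E', hE', w, rfl, hw⟩

theorem annSect_map {M N : ModEt X} (φ : M ⟶ N) {E : EtOver X} (s : sectModEt M E) :
    annSect s ≤ annSect (M := N) (φ.val.app (op E) s) := fun a ha => by
  rw [mem_annSect_iff] at ha ⊢
  rw [← map_smul, ha, map_zero]

theorem subset_of_injective {M N : ModEt X} (φ : M ⟶ N)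
    (h : ∀ E : EtOver X, Function.Injective (φ.val.app (op E))) : WeakAssEt M ⊆ WeakAssEt N := by
  rintro x ⟨E, hE, u, hu, s, hs⟩
  refine ⟨E, hE, u, hu, φ.val.app (op E) s, ?_⟩
  have : annSect (M := N) (φ.val.app (op E) s) = annSect s := by
    refine le_antisymm (fun a ha => ?_) (annSect_map φ s)
    rw [mem_annSect_iff] at ha ⊢
    refine h E ?_
    rw [map_smul, ha, map_zero]
  rwa [this]

theorem subset_union {M₁ M₂ M₃ : ModEt X} (f : M₁ ⟶ M₂) (g : M₂ ⟶ M₃)
    (hf : ∀ E : EtOver X, Function.Injective (f.val.app (op E)))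
    (hex : ∀ (E : EtOver X) (s : sectModEt M₂ E), g.val.app (op E) s = 0 → ∃ t, f.val.app (op E) t = s) :
    WeakAssEt M₂ ⊆ WeakAssEt M₁ ∪ WeakAssEt M₃ := by
  rintro x ⟨E, hE, u, hu, s, hs⟩
  let p := primeAtPt E.obj.left.left u
  have hp : p.IsPrime := inferInstance
  let s'' : sectModEt M₃ E := g.val.app (op E) s
  by_cases hc : annSect s'' ≤ p
  · exact Or.inr ⟨E, hE, u, hu, s'', ⟨hp, hc⟩, fun q hq hqp =>
      hs.2 ⟨hq.1, (annSect_map g s).trans hq.2⟩ hqp⟩
  · obtain ⟨c, hc, hcp⟩ := Set.not_subset.1 hc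
    rw [SetLike.mem_coe, mem_annSect_iff] at hc
    obtain ⟨t, ht⟩ := hex E (upΓ E c • s) (by rw [map_smul]; exact hc)
    have key : ∀ a, a ∈ annSect t ↔ a * c ∈ annSect s := fun a => by
      rw [mem_annSect_iff, mem_annSect_iff, map_mul, mul_smul, ← ht]
      exact ⟨fun h => by rw [← map_smul, h, map_zero], fun h => hf E (by rw [map_smul, h, map_zero])⟩
    refine Or.inl ⟨E, hE, u, hu, t, ⟨hp, fun a ha => ?_⟩, fun q hq hqp => ?_⟩
    · exact (hp.mem_or_mem (hs.1.2 ((key a).1 ha))).resolve_right hcp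
    · exact hs.2 ⟨hq.1, fun a ha => hq.2 ((key a).2 (Ideal.mul_mem_right c _ ha))⟩ hqp

end Groth.Agent.WeakAssEtLib
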